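import Groth.Agent.NormalTensor.Reduced
import Groth.Agent.NormalTensor.Field
import Groth.Agent.RegDesc.FormalFibres
import Groth.Agent.NagataLib.Completion
import Groth.Agent.CMCat.ComplQuot
import Groth.Agent.NagataCompleteLib.QuasiExcellent
import Mathlib.RingTheory.LocalProperties.Reduced

/-!
# Flat homomorphisms with geometrically reduced fibres
-/

set_option autoImplicit false
set_option linter.style.haveILetI false
set_option backward.isDefEq.respectTransparency false
set_option maxHeartbeats 1000000
universe u

open TensorProduct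

namespace Groth.Agent.GeomRedFib

/-- All base changes of `A → A'` to fields are reduced. -/
def FieldReduced (A A' : Type u) [CommRing A] [CommRing A'] [Algebra A A'] : Prop :=
  ∀ (K : Type u) [Field K] [Algebra A K], IsReduced (A' ⊗[A] K)

/-- A reduced algebra stays reduced after a flat base change with universally reduced fibres. -/
theorem isReduced_tensor (A A' : Type u) [CommRing A] [CommRing A'] [Algebra A A'] [Module.Flat A A']
    [IsNoetherianRing A] (H : FieldReduced A A') (B : Type u) [CommRing B] [Algebra A B]
    [IsReduced B] : IsReduced (A' ⊗[A] B) := by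
  classical
  refine ⟨fun z hz => ?_⟩
  obtain ⟨S, hS⟩ := TensorProduct.exists_finset z
  let B₀ := Algebra.adjoin A ((S.image Prod.snd : Finset B) : Set B)
  haveI : Algebra.FiniteType A B₀ := (Subalgebra.fg_iff_finiteType _).mp ⟨_, rfl⟩
  haveI : IsNoetherianRing B₀ := Algebra.FiniteType.isNoetherianRing A B₀
  haveI : IsReduced B₀ := isReduced_of_injective B₀.val Subtype.val_injective
  let g := Algebra.TensorProduct.map (AlgHom.id A A') B₀.val
  have hg : Function.Injective g :=
    Module.Flat.lTensor_preserves_injective_linearMap B₀.val.toLinearMap Subtype.val_injective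
  obtain ⟨z₀, hz₀⟩ : ∃ z₀, g z₀ = z := by
    rw [hS]
    refine sum_mem (S := g.range) fun i hi => ⟨i.1 ⊗ₜ ⟨i.2, Algebra.subset_adjoin
      (Finset.mem_coe.mpr (Finset.mem_image_of_mem _ hi))⟩, rfl⟩
  obtain ⟨n, hn⟩ := hz
  have hn₀ : z₀ ^ n = 0 := hg (by rw [map_pow, hz₀, hn, map_zero])
  haveI : Finite (minimalPrimes B₀) := (minimalPrimes.finite_of_isNoetherianRing B₀).to_subtype
  haveI : ∀ p : minimalPrimes B₀, (p : Ideal B₀).IsPrime := fun p => p.2.1.1
  let φ : ∀ p : minimalPrimes B₀, B₀ →ₐ[A] (p : Ideal B₀).ResidueField :=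
    fun p => IsScalarTower.toAlgHom A B₀ _
  have hφ : Function.Injective (LinearMap.pi fun p => (φ p).toLinearMap) := by
    refine (injective_iff_map_eq_zero _).mpr fun b hb => ?_
    have : b ∈ sInf (minimalPrimes B₀) := by
      rw [Submodule.mem_sInf]
      exact fun p hp => haveI := hp.1.1; Ideal.algebraMap_residueField_eq_zero.mp (congrFun hb ⟨p, hp⟩)
    rw [minimalPrimes, Ideal.sInf_minimalPrimes] at this
    obtain ⟨m, hm⟩ := Ideal.mem_radical_iff.mp this
    exact (isReduced_iff B₀).mp inferInstance b ⟨m, by simpa using hm⟩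
  have h0 : z₀ = 0 := NormalTensor.eq_zero_of_forall_component A A' _ hφ z₀ fun p => by
    haveI := H (p : Ideal B₀).ResidueField
    have h1 : (Algebra.TensorProduct.map (AlgHom.id A A') (φ p)) z₀ ^ n = 0 := by
      rw [← map_pow, hn₀, map_zero]
    exact IsReduced.eq_zero _ ⟨n, h1⟩
  rw [← hz₀, h0, map_zero]

/-- A geometrically reduced algebra stays reduced after every field extension. -/
theorem isReduced_field_tensor (k R : Type u) [Field k] [CommRing R] [Algebra k R]
    [Algebra.IsGeometricallyReduced k R] (K : Type u) [Field K] [Algebra k K] : IsReduced (K ⊗[k] R) := by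
  let Ω := AlgebraicClosure K
  let k' := AlgebraicClosure k
  letI : Algebra k' Ω := (IsAlgClosed.lift : k' →ₐ[k] Ω).toRingHom.toAlgebra
  haveI : IsScalarTower k k' Ω := IsScalarTower.of_algebraMap_eq fun x =>
    ((IsAlgClosed.lift : k' →ₐ[k] Ω).commutes x).symm
  haveI : IsReduced (k' ⊗[k] R) := (Algebra.isGeometricallyReduced_field_iff k R).1 inferInstance
  haveI : Algebra.IsGeometricallyReduced k' Ω := by
    rw [Algebra.isGeometricallyReduced_field_iff]
    exact isReduced_of_injective _ ((Algebra.TensorProduct.congr
      (IsAlgClosure.equiv k' (AlgebraicClosure k') k') (AlgEquiv.refl : Ω ≃ₐ[k'] Ω)).trans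
        (Algebra.TensorProduct.lid k' Ω)).injective
  haveI : IsReduced (Ω ⊗[k'] (k' ⊗[k] R)) := isReduced_tensor k' Ω (fun L _ _ =>
    NormalTensor.isReduced_of_isNormalRing (NormalTensor.isNormalRing_tensor_of_isGeometricallyReduced
      (NormalTensor.isNormalRing_of_domain L))) _
  haveI : IsReduced (Ω ⊗[k] R) := isReduced_of_injective
    (Algebra.TensorProduct.cancelBaseChange k k' Ω Ω R).symm (AlgEquiv.injective _)
  exact isReduced_of_injective (Algebra.TensorProduct.map (IsScalarTower.toAlgHom k K Ω) (AlgHom.id k R))
    (Module.Flat.rTensor_preserves_injective_linearMap (IsScalarTower.toAlgHom k K Ω).toLinearMap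
      (algebraMap K Ω).injective)

/-- Geometrically reduced fibres give universally reduced fibres. -/
theorem fieldReduced_of_fibres {A A' : Type u} [CommRing A] [CommRing A'] [Algebra A A']
    (h : ∀ (p : Ideal A) [p.IsPrime], Algebra.IsGeometricallyReduced p.ResidueField (p.Fiber A')) :
    FieldReduced A A' := by
  intro K _ _
  let p := RingHom.ker (algebraMap A K)
  haveI : p.IsPrime := RingHom.ker_isPrime _
  letI : Algebra p.ResidueField K :=
    (Ideal.ResidueField.lift p (algebraMap A K) le_rfl (fun a ha => by
      exact (isUnit_iff_ne_zero.mpr ha))).toAlgebra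
  haveI : IsScalarTower A p.ResidueField K := IsScalarTower.of_algebraMap_eq fun a => by
    rw [RingHom.algebraMap_toAlgebra, Ideal.ResidueField.lift_algebraMap]
  haveI := h p
  haveI := isReduced_field_tensor p.ResidueField (p.Fiber A') K
  exact isReduced_of_injective ((Algebra.TensorProduct.cancelBaseChange A p.ResidueField K K A').toRingEquiv.trans
      (Algebra.TensorProduct.comm A K A').toRingEquiv).symm (RingEquiv.injective _)

/-- Universally reduced fibres are geometrically reduced. -/
theorem fibres_of_fieldReduced {A A' : Type u} [CommRing A] [CommRing A'] [Algebra A A'] (h : FieldReduced A A')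
    (p : Ideal A) [p.IsPrime] : Algebra.IsGeometricallyReduced p.ResidueField (p.Fiber A') := by
  rw [Algebra.isGeometricallyReduced_field_iff]
  let Ω := AlgebraicClosure p.ResidueField
  haveI := h Ω
  exact isReduced_of_injective ((Algebra.TensorProduct.cancelBaseChange A p.ResidueField Ω Ω A').toRingEquiv.trans
    (Algebra.TensorProduct.comm A Ω A').toRingEquiv) (RingEquiv.injective _)

theorem fieldReduced_comp (A B C : Type u) [CommRing A] [CommRing B] [CommRing C] [IsNoetherianRing B]
    [Algebra A B] [Algebra B C] [Algebra A C] [IsScalarTower A B C] [Module.Flat B C]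
    (hAB : FieldReduced A B) (hBC : FieldReduced B C) : FieldReduced A C := by
  intro K _ _
  haveI := hAB K
  haveI := isReduced_tensor B C hBC (B ⊗[A] K)
  exact isReduced_of_injective (Algebra.TensorProduct.cancelBaseChange A B C C K).symm (AlgEquiv.injective _)

theorem fieldReduced_of_comp (A B C : Type u) [CommRing A] [CommRing B] [CommRing C]
    [Algebra A B] [Algebra B C] [Algebra A C] [IsScalarTower A B C] [Module.FaithfullyFlat B C]
    (h : FieldReduced A C) : FieldReduced A B := by
  intro K _ _
  haveI := h K
  haveI : IsReduced ((B ⊗[A] K) ⊗[B] C) := isReduced_of_injective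
    ((Algebra.TensorProduct.comm B (B ⊗[A] K) C).toRingEquiv.trans
      (Algebra.TensorProduct.cancelBaseChange A B C C K).toRingEquiv) (RingEquiv.injective _)
  exact isReduced_of_injective (algebraMap (B ⊗[A] K) ((B ⊗[A] K) ⊗[B] C))
    (FaithfulSMul.algebraMap_injective (B ⊗[A] K) ((B ⊗[A] K) ⊗[B] C))

/-- A regular homomorphism has universally reduced fibres. -/
theorem fieldReduced_of_isRegularHom {A B : Type u} [CommRing A] [CommRing B] [Algebra A B] [IsNoetherianRing B]
    (h : CAlg.IsRegularHom A B) : FieldReduced A B := by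
  refine fieldReduced_of_fibres fun p _ => ?_
  rw [Algebra.isGeometricallyReduced_field_iff]
  let κ := p.ResidueField
  let Ω := AlgebraicClosure κ
  suffices IsReduced (p.Fiber B ⊗[κ] Ω) from
    isReduced_of_injective (Algebra.TensorProduct.comm κ Ω (p.Fiber B)) (AlgEquiv.injective _)
  refine IsReduced.tensorProduct_of_flat_of_forall_fg fun D hD => ?_
  haveI : Algebra.FiniteType κ D := (Subalgebra.fg_iff_finiteType D).mp hD
  haveI : Algebra.IsIntegral κ D := ⟨fun x => (isIntegral_algHom_iff D.val Subtype.val_injective).mp
    (Algebra.IsIntegral.isIntegral (x : Ω))⟩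
  haveI : Module.Finite κ D := Algebra.IsIntegral.finite
  have hDf : IsField D := isField_of_isIntegral_of_isField' (Field.toIsField κ)
  letI : Field D := hDf.toField
  haveI := (h.2 p).2 D inferInstance
  haveI := NagataCompleteLib.isReduced_of_isRegularRing (D ⊗[κ] p.Fiber B)
  exact isReduced_of_injective (Algebra.TensorProduct.comm κ (p.Fiber B) D) (AlgEquiv.injective _)

/-- Universally reduced fibres are detected by generic fibres over finite domains. -/
theorem fieldReduced_iff_finite_domains (A C : Type u) [CommRing A] [IsNoetherianRing A] [CommRing C] [Algebra A C]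
    [Module.Flat A C] :
    FieldReduced A C ↔ ∀ (B : Type u) [CommRing B] [IsDomain B] [Algebra A B] [Module.Finite A B]
      (q : Ideal (B ⊗[A] C)) [q.IsPrime], q.comap (algebraMap B (B ⊗[A] C)) = ⊥ →
        IsReduced (Localization.AtPrime q) := by
  constructor
  · intro h B _ _ _ _ q _ _
    haveI := isReduced_tensor A C h B
    haveI : IsReduced (B ⊗[A] C) :=
      isReduced_of_injective (Algebra.TensorProduct.comm A B C) (AlgEquiv.injective _)
    infer_instance
  · intro h
    have key : ∀ (k' : Type u) [Field k'] (p : Ideal A) [p.IsPrime] [Algebra p.ResidueField k'] [Algebra A k']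
        [IsScalarTower A p.ResidueField k'] [Module.Finite p.ResidueField k'], IsReduced (k' ⊗[A] C) := by
      intro k' _ p _ _ _ _ _
      obtain ⟨B, hB, hfr⟩ := RegDesc.exists_finite_subalgebra A p k'
      haveI := hB
      haveI := hfr
      letI : Algebra (B ⊗[A] C) (k' ⊗[B] (B ⊗[A] C)) := Algebra.TensorProduct.rightAlgebra
      let M := Algebra.algebraMapSubmonoid (B ⊗[A] C) (nonZeroDivisors B)
      haveI : IsLocalization M (k' ⊗[B] (B ⊗[A] C)) := inferInstance
      haveI : IsReduced (k' ⊗[B] (B ⊗[A] C)) := by
        refine isReduced_ofLocalizationMaximal (k' ⊗[B] (B ⊗[A] C)) fun Q hQ => ?_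
        let q := Q.comap (algebraMap (B ⊗[A] C) (k' ⊗[B] (B ⊗[A] C)))
        have hq : q.comap (algebraMap B (B ⊗[A] C)) = ⊥ := by
          rw [eq_bot_iff]
          intro x hx
          by_contra hne
          exact Set.disjoint_left.1 ((IsLocalization.isPrime_iff_isPrime_disjoint M _ Q).1 hQ.isPrime).2
            ⟨x, mem_nonZeroDivisors_of_ne_zero hne, rfl⟩ hx
        haveI := h B q hq
        haveI := IsLocalization.isLocalization_isLocalization_atPrime_isLocalization M (Localization.AtPrime Q) Q
        exact isReduced_of_injective (IsLocalization.algEquiv q.primeCompl (Localization.AtPrime Q) (Localization.AtPrime q))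
          (AlgEquiv.injective _)
      exact isReduced_of_injective (Algebra.TensorProduct.cancelBaseChange A B k' k' C).symm (AlgEquiv.injective _)
    refine fieldReduced_of_fibres fun p _ => ?_
    rw [Algebra.isGeometricallyReduced_field_iff]
    let κ := p.ResidueField
    let Ω := AlgebraicClosure κ
    suffices IsReduced (p.Fiber C ⊗[κ] Ω) from
      isReduced_of_injective (Algebra.TensorProduct.comm κ Ω (p.Fiber C)) (AlgEquiv.injective _)
    refine IsReduced.tensorProduct_of_flat_of_forall_fg fun D hD => ?_
    haveI : Algebra.FiniteType κ D := (Subalgebra.fg_iff_finiteType D).mp hD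
    haveI : Algebra.IsIntegral κ D := ⟨fun x => (isIntegral_algHom_iff D.val Subtype.val_injective).mp
      (Algebra.IsIntegral.isIntegral (x : Ω))⟩
    haveI : Module.Finite κ D := Algebra.IsIntegral.finite
    letI : Field D := (isField_of_isIntegral_of_isField' (Field.toIsField κ) : IsField D).toField
    haveI := key D p
    exact isReduced_of_injective ((Algebra.TensorProduct.comm κ (p.Fiber C) D).toRingEquiv.trans
      (Algebra.TensorProduct.cancelBaseChange A κ D D C).toRingEquiv) (RingEquiv.injective _)

section Completion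

open IsLocalRing

variable {R : Type u} [CommRing R] [IsLocalRing R] [IsNoetherianRing R]

/-- The tensor product with the completion embeds in the completion along a larger radical ideal. -/
theorem exists_injective_completion (C : Type u) [CommRing C] [Algebra R C] [Module.Finite R C] (J : Ideal C)
    (hJ : (maximalIdeal R).map (algebraMap R C) ≤ J) {k : ℕ} (hk : J ^ k ≤ (maximalIdeal R).map (algebraMap R C)) :
    ∃ F : C ⊗[R] AdicCompletion (maximalIdeal R) R →+* AdicCompletion J C, Function.Injective F := by
  let m := maximalIdeal R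
  let Rh := AdicCompletion m R
  haveI : IsNoetherianRing Rh := RegLocal.isNoetherianRing_completion R _
  haveI : IsAdicComplete (m.map (algebraMap R Rh)) Rh := AdicCompletion.isAdicComplete_self _ m.fg_of_isNoetherianRing
  let T := C ⊗[R] Rh
  let χ : Rh →ₐ[R] AdicCompletion J C :=
    { CMCat.complHom (algebraMap R C) m J hJ with
      commutes' := fun r => (CMCat.complHom_algebraMap (algebraMap R C) m J hJ r).trans
        (IsScalarTower.algebraMap_apply R C _ r).symm }
  let F : T →ₐ[R] AdicCompletion J C :=
    Algebra.TensorProduct.lift (IsScalarTower.toAlgHom R C (AdicCompletion J C)) χ fun _ _ => Commute.all _ _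
  refine ⟨F.toRingHom, (injective_iff_map_eq_zero _).2 fun z hz => ?_⟩
  letI : Algebra Rh T := Algebra.TensorProduct.rightAlgebra
  haveI : Module.Finite Rh T := Module.Finite.equiv (Algebra.TensorProduct.commRight R Rh C).toLinearEquiv
  have hsep := FiniteCompleteLib.isAdicComplete_of_finite (m.map (algebraMap R Rh)) T
  -- approximation of `z` by elements of `C`
  have happ : ∀ N : ℕ, ∀ w : T, ∃ c : C, w - algebraMap C T c ∈ (m ^ N).map (algebraMap R T) := by
    intro N w
    induction w using TensorProduct.induction_on with
    | zero => exact ⟨0, by simp⟩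
    | add a b ha hb =>
      obtain ⟨c, hc⟩ := ha
      obtain ⟨d, hd⟩ := hb
      exact ⟨c + d, by rw [map_add, add_sub_add_comm]; exact add_mem hc hd⟩
    | tmul c b =>
      obtain ⟨a, ha⟩ := Ideal.Quotient.mk_surjective (AdicCompletion.evalₐ m N b)
      have hb : b - algebraMap R Rh a ∈ (m ^ N).map (algebraMap R Rh) := by
        rw [← CMCat.evalₐ_eq_zero_iff m.fg_of_isNoetherianRing, map_sub, AlgHom.commutes, ← ha, Ideal.Quotient.algebraMap_eq,
          sub_self]
      refine ⟨a • c, ?_⟩
      have : c ⊗ₜ[R] b - algebraMap C T (a • c) = (c ⊗ₜ[R] (1 : Rh)) * ((1 : C) ⊗ₜ[R] (b - algebraMap R Rh a)) := by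
        rw [Algebra.TensorProduct.algebraMap_apply, Algebra.TensorProduct.tmul_mul_tmul, mul_one, one_mul,
          TensorProduct.tmul_sub, Algebra.algebraMap_eq_smul_one a, TensorProduct.tmul_smul, TensorProduct.smul_tmul']
        rfl
      rw [this]
      refine Ideal.mul_mem_left _ _ ?_
      have := Ideal.mem_map_of_mem (Algebra.TensorProduct.includeRight : Rh →ₐ[R] T).toRingHom hb
      rwa [Ideal.map_map, show (Algebra.TensorProduct.includeRight : Rh →ₐ[R] T).toRingHom.comp (algebraMap R Rh) =
        algebraMap R T from RingHom.ext fun r =>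
          AlgHom.commutes (Algebra.TensorProduct.includeRight : Rh →ₐ[R] T) r] at this
  refine hsep.haus' z fun l => ?_
  rw [SModEq.zero, Ideal.smul_top_eq_map, Submodule.restrictScalars_mem, ← Ideal.map_pow, Ideal.map_map,
    show (algebraMap Rh T).comp (algebraMap R Rh) = algebraMap R T from
      RingHom.ext fun r => AlgHom.commutes (Algebra.TensorProduct.includeRight : Rh →ₐ[R] T) r]
  obtain ⟨c, hc⟩ := happ (k * l + l) z
  have hmem : AdicCompletion.evalₐ J (k * l) (algebraMap C (AdicCompletion J C) c) = 0 := by
    have h1 := Ideal.mem_map_of_mem F.toRingHom hc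
    rw [Ideal.map_map, show F.toRingHom.comp (algebraMap R T) = algebraMap R (AdicCompletion J C) from RingHom.ext fun r => F.commutes r,
      map_sub, hz, zero_sub, neg_mem_iff] at h1
    have h2 := Ideal.mem_map_of_mem (AdicCompletion.evalₐ J (k * l)).toRingHom h1
    rw [Ideal.map_map, IsScalarTower.algebraMap_eq R C (AdicCompletion J C), ← RingHom.comp_assoc,
      show (AdicCompletion.evalₐ J (k * l)).toRingHom.comp (algebraMap C (AdicCompletion J C)) =
        Ideal.Quotient.mk (J ^ (k * l)) from RingHom.ext fun c => AlgHom.commutes (AdicCompletion.evalₐ J (k * l)) c, ← Ideal.map_map] at h2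
    have h3 : ((m ^ (k * l + l)).map (algebraMap R C)).map (Ideal.Quotient.mk (J ^ (k * l))) = ⊥ := by
      rw [Ideal.map_eq_bot_iff_le_ker, Ideal.mk_ker, Ideal.map_pow]
      exact (Ideal.pow_right_mono hJ _).trans (Ideal.pow_le_pow_right (Nat.le_add_right _ _))
    rw [h3, Ideal.mem_bot] at h2
    have e : F (algebraMap C T c) = algebraMap C (AdicCompletion J C) c := by
      rw [Algebra.TensorProduct.algebraMap_apply]
      show Algebra.TensorProduct.lift _ χ _ ((algebraMap C C c) ⊗ₜ[R] (1 : Rh)) = _
      rw [Algebra.TensorProduct.lift_tmul, map_one, mul_one]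
      rfl
    change AdicCompletion.evalₐ J (k * l) (F (algebraMap C T c)) = 0 at h2
    rwa [e] at h2
  rw [AlgHom.commutes, Ideal.Quotient.algebraMap_eq, Ideal.Quotient.eq_zero_iff_mem, pow_mul] at hmem
  have h4 : algebraMap C T c ∈ (m ^ l).map (algebraMap R T) := by
    have := Ideal.mem_map_of_mem (algebraMap C T) (Ideal.pow_right_mono hk l hmem)
    rwa [← Ideal.map_pow, Ideal.map_map, ← IsScalarTower.algebraMap_eq] at this
  have h5 := Ideal.map_mono (f := algebraMap R T) (Ideal.pow_le_pow_right (I := m) (show l ≤ k * l + l by omega)) hc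
  simpa using add_mem h5 h4

end Completion

end Groth.Agent.GeomRedFib
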