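import Groth.Agent.GeomRedFib.Basic
import Groth.Agent.WLocalLib.WeakEtale
import Groth.Agent.RatliffLib.Hensel
import Groth.Agent.Henselization.IndEtale
import Groth.Agent.NagataLib.Completion
import Groth.Agent.S7128
import Groth.Agent.S0736
import Groth.Agent.S0567
import Groth.Agent.S2657

/-!
# Geometrically reduced formal fibres: Nagata local rings and henselization
-/

set_option autoImplicit false
set_option backward.isDefEq.respectTransparency false
set_option maxHeartbeats 1000000
set_option linter.style.haveILetI false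

universe u

open IsLocalRing TensorProduct

namespace Groth.Agent.GeomRedFib

theorem fieldReduced_of_algEquiv {A B C : Type u} [CommRing A] [CommRing B] [CommRing C] [Algebra A B]
    [Algebra A C] (e : B ≃ₐ[A] C) (h : FieldReduced A B) : FieldReduced A C := fun K _ _ => by
  haveI := h K
  exact isReduced_of_injective (Algebra.TensorProduct.congr e (AlgEquiv.refl : K ≃ₐ[A] K)).symm
    (AlgEquiv.injective _)

/-- Weakly étale algebras are universally reduced over fields. -/
theorem fieldReduced_of_weaklyEtale (R S : Type u) [CommRing R] [CommRing S] [Algebra R S]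
    [Algebra.WeaklyEtale R S] : FieldReduced R S := fun K _ _ => by
  haveI : IsReduced (K ⊗[R] S) := S7128.result K (K ⊗[R] S)
  exact isReduced_of_injective (Algebra.TensorProduct.comm R S K) (AlgEquiv.injective _)

/-- In a weakly étale algebra over a field, an element of a prime is killed by an element outside it. -/
theorem exists_mul_eq_zero_of_weaklyEtale {L C : Type u} [Field L] [CommRing C] [Algebra L C]
    [Algebra.WeaklyEtale L C] (P : Ideal C) [P.IsPrime] {x : C} (hx : x ∈ P) :
    ∃ s ∉ P, s * x = 0 := by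
  haveI : IsReduced C := S7128.result L C
  haveI : IsReduced (Localization.AtPrime P) :=
    isReduced_localizationPreserves P.primeCompl (Localization.AtPrime P) (by infer_instance)
  have hx0 : algebraMap C (Localization.AtPrime P) x ∈ nilradical (Localization.AtPrime P) := by
    rw [nilradical_eq_sInf, Ideal.mem_sInf]
    intro Q hQ
    haveI : Q.IsPrime := hQ
    have hle : Q.comap (algebraMap C (Localization.AtPrime P)) ≤ P :=
      (Ideal.comap_mono (le_maximalIdeal hQ.ne_top)).trans (IsLocalization.AtPrime.comap_maximalIdeal _ P).le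
    have key := WLocalLib.incomparable_of_weaklyEtale (A := L) (B := C)
      ⟨Q.comap (algebraMap C (Localization.AtPrime P)), inferInstance⟩ ⟨P, inferInstance⟩
      ((Ideal.eq_bot_of_prime _).trans (Ideal.eq_bot_of_prime _).symm) hle
    have := (congrArg PrimeSpectrum.asIdeal key).ge hx
    exact this
  rw [nilradical_eq_zero, Ideal.zero_eq_bot, Ideal.mem_bot,
    IsLocalization.map_eq_zero_iff P.primeCompl] at hx0
  obtain ⟨⟨s, hs⟩, h⟩ := hx0
  exact ⟨s, hs, h⟩

/-- Universally reduced fibres pass to the top of a tower with weakly étale bottom. -/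
theorem fieldReduced_top (R S B : Type u) [CommRing R] [CommRing S] [CommRing B] [Algebra R S]
    [Algebra.WeaklyEtale R S] [Algebra S B] [Algebra R B] [IsScalarTower R S B] (h : FieldReduced R B) :
    FieldReduced S B := by
  intro L _ _
  letI : Algebra R L := ((algebraMap S L).comp (algebraMap R S)).toAlgebra
  haveI : IsScalarTower R S L := IsScalarTower.of_algebraMap_eq fun _ => rfl
  haveI := h L
  let C := L ⊗[R] S
  let D := B ⊗[R] L
  let μ : C →+* L := (Algebra.TensorProduct.lift (AlgHom.id R L) (IsScalarTower.toAlgHom R S L)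
    fun _ _ => Commute.all _ _).toRingHom
  let θ : C →+* D := (Algebra.TensorProduct.lift (Algebra.TensorProduct.includeRight : L →ₐ[R] D)
    ((Algebra.TensorProduct.includeLeft : B →ₐ[R] D).comp (IsScalarTower.toAlgHom R S B))
    fun _ _ => Commute.all _ _).toRingHom
  let P : Ideal C := RingHom.ker μ
  haveI : P.IsPrime := RingHom.ker_isPrime _
  let I : Ideal D := P.map θ
  let π : D →ₐ[R] B ⊗[S] L := Algebra.TensorProduct.lift
    ((Algebra.TensorProduct.includeLeft : B →ₐ[S] B ⊗[S] L).restrictScalars R)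
    ((Algebra.TensorProduct.includeRight : L →ₐ[S] B ⊗[S] L).restrictScalars R) fun _ _ => Commute.all _ _
  have hall : ∀ z : C, π (θ z) = (Algebra.TensorProduct.includeRight : L →ₐ[S] B ⊗[S] L) (μ z) := fun z => by
    induction z using TensorProduct.induction_on with
    | zero => simp
    | add a b ha hb => simp only [map_add, ha, hb]
    | tmul l s =>
      have h1 : θ (l ⊗ₜ[R] s) = ((1 : B) ⊗ₜ[R] l) * (algebraMap S B s ⊗ₜ[R] (1 : L)) := rfl
      have h2 : μ (l ⊗ₜ[R] s) = l * algebraMap S L s := rfl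
      rw [h1, h2, Algebra.TensorProduct.tmul_mul_tmul, one_mul, mul_one]
      show (algebraMap S B s ⊗ₜ[S] (1 : L)) * ((1 : B) ⊗ₜ[S] l) = (1 : B) ⊗ₜ[S] (l * algebraMap S L s)
      rw [Algebra.TensorProduct.tmul_mul_tmul, one_mul, mul_one, Algebra.algebraMap_eq_smul_one,
        TensorProduct.smul_tmul, Algebra.smul_def, mul_comm]
  -- the inverse map
  let E := D ⧸ I
  let f : B →ₐ[S] E := IsScalarTower.toAlgHom S B E
  let g : L →ₐ[S] E :=
    { (Ideal.Quotient.mk I).comp (Algebra.TensorProduct.includeRight : L →ₐ[R] D).toRingHom with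
      commutes' := fun s => by
        show Ideal.Quotient.mk I ((1 : B) ⊗ₜ[R] algebraMap S L s) = Ideal.Quotient.mk I (algebraMap S B s ⊗ₜ[R] (1 : L))
        rw [Ideal.Quotient.mk_eq_mk_iff_sub_mem]
        have hmem : (algebraMap S L s) ⊗ₜ[R] (1 : S) - (1 : L) ⊗ₜ[R] s ∈ P := by
          have h1 : μ ((algebraMap S L s) ⊗ₜ[R] (1 : S)) = algebraMap S L s * algebraMap S L 1 := rfl
          have h2 : μ ((1 : L) ⊗ₜ[R] s) = 1 * algebraMap S L s := rfl
          show μ _ = 0
          rw [map_sub, h1, h2, map_one, mul_one, one_mul, sub_self]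
        have h3 : θ ((algebraMap S L s) ⊗ₜ[R] (1 : S)) = ((1 : B) ⊗ₜ[R] algebraMap S L s) * (algebraMap S B 1 ⊗ₜ[R] (1 : L)) := rfl
        have h4 : θ ((1 : L) ⊗ₜ[R] s) = ((1 : B) ⊗ₜ[R] (1 : L)) * (algebraMap S B s ⊗ₜ[R] (1 : L)) := rfl
        have := Ideal.mem_map_of_mem θ hmem
        rwa [map_sub, h3, h4, map_one, Algebra.TensorProduct.tmul_mul_tmul, Algebra.TensorProduct.tmul_mul_tmul,
          one_mul, one_mul, mul_one, mul_one] at this }
  let ρ : B ⊗[S] L →ₐ[S] E := Algebra.TensorProduct.lift f g fun _ _ => Commute.all _ _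
  have hρ : ∀ d, ρ (π d) = Ideal.Quotient.mk I d := fun d => by
    induction d using TensorProduct.induction_on with
    | zero => simp
    | add a b ha hb => rw [map_add, map_add, ha, hb, map_add]
    | tmul b l =>
      have h1 : π (b ⊗ₜ[R] l) = (b ⊗ₜ[S] (1 : L)) * ((1 : B) ⊗ₜ[S] l) := rfl
      rw [h1, map_mul, Algebra.TensorProduct.lift_tmul, Algebra.TensorProduct.lift_tmul, map_one, map_one, mul_one, one_mul]
      show Ideal.Quotient.mk I (b ⊗ₜ[R] (1 : L)) * Ideal.Quotient.mk I ((1 : B) ⊗ₜ[R] l) = _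
      rw [← map_mul, Algebra.TensorProduct.tmul_mul_tmul, mul_one, one_mul]
  have hπ : Function.Surjective π := fun z => by
    induction z using TensorProduct.induction_on with
    | zero => exact ⟨0, map_zero _⟩
    | add a b ha hb =>
      obtain ⟨x, rfl⟩ := ha
      obtain ⟨y, rfl⟩ := hb
      exact ⟨x + y, map_add _ _ _⟩
    | tmul b l => exact ⟨b ⊗ₜ l, show (b ⊗ₜ[S] (1 : L)) * ((1 : B) ⊗ₜ[S] l) = b ⊗ₜ[S] l by
        rw [Algebra.TensorProduct.tmul_mul_tmul, mul_one, one_mul]⟩
  have hkill : ∀ d ∈ I, ∃ c ∉ P, θ c * d = 0 := by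
    intro d hd
    induction hd using Submodule.span_induction with
    | mem y hy =>
      obtain ⟨x, hx, rfl⟩ := hy
      obtain ⟨s, hs, hs0⟩ := exists_mul_eq_zero_of_weaklyEtale (L := L) P hx
      exact ⟨s, hs, by rw [← map_mul, hs0, map_zero]⟩
    | zero => exact ⟨1, fun h1 => ‹P.IsPrime›.ne_top ((Ideal.eq_top_iff_one _).2 h1), mul_zero _⟩
    | add a b _ _ ha hb =>
      obtain ⟨s, hs, hsa⟩ := ha
      obtain ⟨t, ht, htb⟩ := hb
      refine ⟨s * t, fun hst => (‹P.IsPrime›.mem_or_mem hst).elim hs ht, ?_⟩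
      rw [map_mul, mul_add, mul_right_comm, hsa, zero_mul, zero_add, mul_assoc, htb, mul_zero]
    | smul r a _ ha =>
      obtain ⟨s, hs, hsa⟩ := ha
      exact ⟨s, hs, by rw [smul_eq_mul, mul_left_comm, hsa, mul_zero]⟩
  refine ⟨fun z hz => ?_⟩
  obtain ⟨n, hn⟩ := hz
  obtain ⟨d, rfl⟩ := hπ z
  have hdI : d ^ n ∈ I := by
    rw [← Ideal.Quotient.eq_zero_iff_mem, ← hρ, map_pow, hn, map_zero]
  obtain ⟨c, hc, hcd⟩ := hkill _ hdI
  rcases Nat.eq_zero_or_pos n with rfl | hn0
  · rw [pow_zero] at hn
    rw [← mul_one (π d), hn, mul_zero]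
  have h0 : θ c * d = 0 := IsReduced.eq_zero _ ⟨n, by
    obtain ⟨m, rfl⟩ : ∃ m, n = m + 1 := ⟨n - 1, by omega⟩
    rw [mul_pow, pow_succ (θ c), mul_assoc, hcd, mul_zero]⟩
  have hu : IsUnit (π (θ c)) := by
    rw [hall]
    exact (isUnit_iff_ne_zero.2 fun h' => hc h').map _
  exact hu.mul_right_eq_zero.1 (by rw [← map_mul, h0, map_zero])

/-- A local ring is universally Japanese iff its formal fibres are geometrically reduced. -/
theorem universallyJapanese_iff (A : Type u) [CommRing A] [IsNoetherianRing A] [IsLocalRing A] :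
    CAlg.IsUniversallyJapanese A ↔ EGA4.HasGeomReducedFormalFibres A := by
  refine ⟨fun hJ p _ => ?_, fun h => ((S0567.result A).1 (S2657.result A h)).2⟩
  haveI : Module.FaithfullyFlat A (EGA4.Cpl A) :=
    RegLocal.faithfullyFlat_completion A _ (maximalIdeal.isMaximal A).ne_top
  have hN : CAlg.IsNagata A := (S0567.result A).2 ⟨inferInstance, hJ⟩
  refine fibres_of_fieldReduced ((fieldReduced_iff_finite_domains A (EGA4.Cpl A)).2 fun B _ _ _ _ q _ _ => ?_) p
  haveI := NagataLib.isReduced_tensor_completion_of_isReduced hN B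
  infer_instance

/-- Henselization does not change geometric reducedness of the formal fibres. -/
theorem hasGeomReducedFormalFibres_henselization_iff (R S : Type u) [CommRing R] [IsLocalRing R] [IsNoetherianRing R]
    [CommRing S] [IsLocalRing S] [Algebra R S] [IsLocalHom (algebraMap R S)] [_root_.Hensel.IsHenselization R S] :
    EGA4.HasGeomReducedFormalFibres S ↔ EGA4.HasGeomReducedFormalFibres R := by
  obtain ⟨-, hm, hnS⟩ := RatliffLib.henselization_facts R S
  haveI := hnS
  obtain ⟨e⟩ := Henselization.exists_algEquiv_of_isHenselization R S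
  haveI : Algebra.WeaklyEtale R S := S0736.result R S (Henselization.isIndEtale_of_equiv e)
  have hP := (S1993.result R S).2 ‹_›
  have hbij := RatliffLib.exists_complEquiv (algebraMap R S) (maximalIdeal R) (maximalIdeal S) hm.le
    fun n => by
      have h1 := PairHens.quotientMap_pow_bijective hP n
      have h2 : ((maximalIdeal R) ^ n).map (algebraMap R S) = maximalIdeal S ^ n := by rw [Ideal.map_pow, hm]
      convert! (Ideal.quotEquivOfEq h2).bijective.comp h1 using 1
      funext x
      obtain ⟨a, rfl⟩ := Ideal.Quotient.mk_surjective x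
      rfl
  let ψ : EGA4.Cpl R →ₐ[R] EGA4.Cpl S :=
    { CMCat.complHom (algebraMap R S) (maximalIdeal R) (maximalIdeal S) hm.le with
      commutes' := fun r => (CMCat.complHom_algebraMap (algebraMap R S) _ _ hm.le r).trans
        (IsScalarTower.algebraMap_apply R S (EGA4.Cpl S) r).symm }
  let E : EGA4.Cpl R ≃ₐ[R] EGA4.Cpl S := AlgEquiv.ofBijective ψ hbij
  constructor
  · intro h p _
    haveI : Module.Flat S (EGA4.Cpl S) := AdicCompletion.flat_of_isNoetherian _
    exact fibres_of_fieldReduced (fieldReduced_of_algEquiv E.symm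
      (fieldReduced_comp R S (EGA4.Cpl S) (fieldReduced_of_weaklyEtale R S) (fieldReduced_of_fibres h))) p
  · intro h p _
    exact fibres_of_fieldReduced
      (fieldReduced_top R S (EGA4.Cpl S) (fieldReduced_of_algEquiv E (fieldReduced_of_fibres h))) p

end Groth.Agent.GeomRedFib
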